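/-
The number of elements of a given prime power order is divisible by `p - 1`.
-/
import Mathlib

namespace Cfsg.Lib.CountElems

theorem sub_one_dvd_card {G : Type*} [Group G] [Finite G] {p : ℕ} (hp : p.Prime) (i : ℕ) :
    p - 1 ∣ Nat.card {g : G // orderOf g = p ^ (i + 1)} := by
  classical
  haveI := Fintype.ofFinite G
  -- elements generating the same cyclic subgroup
  let f : {g : G // orderOf g = p ^ (i + 1)} → {C : Subgroup G // ∃ g : G, orderOf g = p ^ (i + 1) ∧ Subgroup.zpowers g = C} :=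
    fun g => ⟨Subgroup.zpowers g.1, g.1, g.2, rfl⟩
  haveI := Fintype.ofFinite {C : Subgroup G // ∃ g : G, orderOf g = p ^ (i + 1) ∧ Subgroup.zpowers g = C}
  rw [← Nat.card_congr (Equiv.sigmaFiberEquiv f), Nat.card_sigma]
  refine Finset.dvd_sum fun C _ => ?_
  obtain ⟨C, g, hg, rfl⟩ := C
  have e : {z // f z = ⟨Subgroup.zpowers g, g, hg, rfl⟩} ≃ {z : Subgroup.zpowers g // orderOf z = p ^ (i + 1)} :=
    { toFun := fun z => ⟨⟨z.1.1, (congrArg Subtype.val z.2).le (Subgroup.mem_zpowers _)⟩, by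
        rw [Subgroup.orderOf_mk]; exact z.1.2⟩
      invFun := fun z => ⟨⟨z.1, by rw [Subgroup.orderOf_coe]; exact z.2⟩, Subtype.ext
        (Subgroup.eq_of_le_of_card_ge (Subgroup.zpowers_le.2 z.1.2) (le_of_eq (by
          rw [Nat.card_zpowers, Nat.card_zpowers, Subgroup.orderOf_coe, z.2, hg])))⟩
      left_inv := fun z => rfl
      right_inv := fun z => rfl }
  rw [Nat.card_congr e, Nat.card_eq_fintype_card, Fintype.card_subtype,
    IsCyclic.card_orderOf_eq_totient (by rw [← Nat.card_eq_fintype_card, Nat.card_zpowers, hg]),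
    Nat.totient_prime_pow_succ hp]
  exact dvd_mul_left _ _

end Cfsg.Lib.CountElems
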